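import Cfsg.Agent.Lib.F4Mat78.Basic
import Cfsg.Agent.Lib.Fi22InE6.Data
import Cfsg.Agent.Lib.Twisted.TwistedBN
import Cfsg.Prelude.Def_LieTwisted
import Cfsg.Prelude.Def_Spor_Fi22

/-!
Nine involutions of twisted `E₆` over the field with four elements satisfying the defining relations of the
presented group `Fi₂₂`.
-/

set_option autoImplicit false
set_option linter.unusedSectionVars false
set_option maxRecDepth 100000
set_option maxHeartbeats 4000000

namespace CfsgLib.Fi22InE6

open Cfsg Cfsg.Lie CfsgLib.Chevalley CfsgLib.F4Mat78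

/-- The generating words: roots with parameters `p + q w`. -/
def spec : List (List (ℕ × Bool × Bool)) :=
  [[(46, true, false)], [(25, true, false)], [(39, true, false)], [(32, true, false)],
    [(56, true, false), (36, true, false)], [(56, false, true), (36, true, true)],
    [(15, true, false), (35, true, false)], [(15, false, true), (35, true, true)],
    [(42, true, false), (37, true, false)], [(42, false, true), (37, true, true)],
    [(29, true, false), (34, true, false)], [(29, false, true), (34, true, true)]]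

/-- Their matrices. -/
def gM : List Mat :=
  [Data.g0, Data.g1, Data.g2, Data.g3, Data.g4, Data.g5, Data.g6, Data.g7, Data.g8, Data.g9, Data.g10, Data.g11]

/-- The word whose conjugate of the first generator is the involution `c`. -/
def word : Spor.Fi22.Gen → List (Fin 12)
  | .d => []
  | .c => [4, 2, 9, 2, 3, 10, 5, 8, 7, 1, 3, 11, 1, 3, 2, 1]
  | .b => [3, 2, 8, 10, 0, 2, 8, 5, 6, 3, 11, 0, 2, 8, 1, 3, 2, 1]
  | .e => [9, 3, 1, 3, 11, 3, 2, 8, 4, 6, 11, 8, 2, 3, 1]
  | .f => [9, 10, 6, 4, 2, 8, 6, 3, 10, 1, 3, 2, 1]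
  | .h => [2, 3, 10, 5, 0, 2, 8, 6, 2, 3, 10, 5, 8, 2, 3, 1]
  | .i => [10, 3, 2, 8, 11, 6, 5, 9, 2, 1, 3, 11, 3, 1]
  | .g => [5, 8, 7, 3, 11, 7, 2, 1, 3, 11, 8, 5, 8, 3, 2, 1]
  | .a => [3, 11, 1, 3, 10, 0, 2, 8, 6, 10, 4, 0, 2, 8, 2, 3, 1]

/-- The matrices of the nine involutions. -/
def yM : Spor.Fi22.Gen → Mat
  | .a => Data.ya
  | .b => Data.yb
  | .c => Data.yc
  | .d => Data.yd
  | .e => Data.ye
  | .f => Data.yf
  | .g => Data.yg
  | .h => Data.yh
  | .i => Data.yi

/-- The generators listed. -/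
def allGens : List Spor.Fi22.Gen := [.a, .b, .c, .d, .e, .f, .g, .h, .i]

/-- The position of a generator. -/
def ord : Spor.Fi22.Gen → ℕ
  | .a => 0
  | .b => 1
  | .c => 2
  | .d => 3
  | .e => 4
  | .f => 5
  | .g => 6
  | .h => 7
  | .i => 8

theorem mem_allGens (c : Spor.Fi22.Gen) : c ∈ allGens := by cases c <;> simp [allGens]

/-- Positive powers. -/
noncomputable def powM (A : Mat) : ℕ → Mat
  | 0 => oneM 78
  | 1 => A
  | n + 2 => mulM A (powM A (n + 1))

theorem gM_check : spec.map (fun l => prodM 78 (l.map fun p => genM chevE6 p.2.1 p.2.2 p.1)) = gM := by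
  decide +kernel

theorem roots_lt : ∀ l ∈ spec, ∀ p ∈ l, p.1 < chevE6.nroots := by decide +kernel

theorem yM_check : ∀ c ∈ allGens, (yM c).length = 78 ∧
    mulM (yM c) (prodM 78 ((word c).map fun j => gM.getD j.val [])) =
      mulM (prodM 78 ((word c).map fun j => gM.getD j.val [])) Data.g0 := by
  decide +kernel

theorem cox_check : ∀ x ∈ allGens, ∀ y ∈ allGens, ord x ≤ ord y →
    powM (mulM (yM x) (yM y)) (Spor.coxLabel Spor.Fi22.edges x y) = oneM 78 := by
  decide +kernel

theorem coxLabel_comm : ∀ x ∈ allGens, ∀ y ∈ allGens,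
    Spor.coxLabel Spor.Fi22.edges x y = Spor.coxLabel Spor.Fi22.edges y x ∧
      Spor.coxLabel Spor.Fi22.edges x x = 1 := by
  decide +kernel

theorem extra_check :
    powM (powM (prodM 78 ([.d, .c, .b, .d, .e, .f, .d, .h, .i].map yM)) 5) 2 = oneM 78 ∧
    powM (powM (prodM 78 ([.a, .b, .c, .d, .e, .f, .h].map yM)) 3) 3 = oneM 78 ∧
    powM (powM (prodM 78 ([.b, .c, .d, .e, .f, .g, .h].map yM)) 3) 3 = oneM 78 := by
  decide +kernel

variable {K : Type*} [Field K]

/-- The certificate of the E₆ datum. -/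
theorem full : Full chevE6 auxE6 := CfsgLib.Twisted.fullE6

/-- The generator `j` over `K`. -/
noncomputable def gE (w : K) (j : Fin 12) : GL chevE6.Idx K :=
  ((spec.getD j.val []).map fun p => xG full.cert p.1 (val w p.2.1 p.2.2)).prod

/-- The involution `c` over `K`. -/
noncomputable def yE (w : K) (c : Spor.Fi22.Gen) : GL chevE6.Idx K :=
  ((word c).map (gE w)).prod * gE w 0 * ((word c).map (gE w)).prod⁻¹

variable [CharP K 2] {w : K} (hw : w * w = w + 1)

include hw

theorem gE_rep (j : Fin 12) : Rep chevE6 w (gE w j) (gM.getD j.val []) := by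
  have hl : j.val < spec.length := j.isLt
  have e : gM.getD j.val [] = prodM 78 ((spec.getD j.val []).map fun p => genM chevE6 p.2.1 p.2.2 p.1) := by
    rw [← gM_check, List.getD_eq_getElem?_getD, List.getD_eq_getElem?_getD, List.getElem?_map,
      List.getElem?_eq_getElem hl]
    rfl
  rw [e, gE]
  refine Rep.prod hw (List.forall₂_map_left_iff.2 (List.forall₂_map_right_iff.2 (List.forall₂_same.2 fun p hp => ?_)))
  refine rep_xG hw full.cert (roots_lt _ ?_ p hp) _ _
  rw [List.getD_eq_getElem?_getD, List.getElem?_eq_getElem hl]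
  exact List.getElem_mem hl

theorem prod_rep (l : List (Fin 12)) :
    Rep chevE6 w (l.map (gE w)).prod (prodM 78 (l.map fun j => gM.getD j.val [])) :=
  Rep.prod hw (List.forall₂_map_left_iff.2 (List.forall₂_map_right_iff.2
    (List.forall₂_same.2 fun j _ => gE_rep hw j)))

theorem yE_rep (c : Spor.Fi22.Gen) : Rep chevE6 w (yE w c) (yM c) := by
  obtain ⟨hlen, e⟩ := yM_check c (mem_allGens c)
  have hP := prod_rep hw (word c)
  have h0 : Rep chevE6 w (gE w 0) Data.g0 := gE_rep hw 0
  refine ⟨hlen, ?_⟩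
  rw [yE, Units.val_mul, (hP.mul hw h0).2, ← e, toMat_mul hw hlen hP.1, ← hP.2, mul_assoc,
    ← Units.val_mul, mul_inv_cancel, Units.val_one, mul_one]

theorem gE_mem (j : Fin 12) : gE w j ∈ twistedE6 K 2 := by
  have e1 : val w true false = (1 : K) := by simp [val]
  have e2 : val w false true ^ 2 = val w true true := by rw [sq, val_mul hw]; rfl
  refine Subgroup.subset_closure ⟨(spec.getD j.val []).map fun p => (p.1, val w p.2.1 p.2.2), ?_, ?_⟩
  · have hp : ∀ rs ∈ [(e6p1, e6p6), (e6m1, e6m6), (e6p3, e6p5), (e6m3, e6m5)], ∀ t t' : K, t ^ 2 = t' →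
        [(rs.1, t), (rs.2, t')] ∈ e6Words K 2 := fun rs hrs t t' ht => Or.inr ⟨t, rs, hrs, by rw [ht]⟩
    have hs : ∀ r ∈ [e6p2, e6m2, e6p4, e6m4], [(r, val w true false)] ∈ e6Words K 2 :=
      fun r hr => Or.inl ⟨val w true false, by rw [e1, one_pow], r, hr, rfl⟩
    have e0 : val w true false ^ 2 = val w true false := by rw [e1, one_pow]
    fin_cases j <;>
      first
        | exact hs 46 (by decide) | exact hs 25 (by decide) | exact hs 39 (by decide) | exact hs 32 (by decide)
        | exact hp (56, 36) (by decide) _ _ e0 | exact hp (56, 36) (by decide) _ _ e2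
        | exact hp (15, 35) (by decide) _ _ e0 | exact hp (15, 35) (by decide) _ _ e2
        | exact hp (42, 37) (by decide) _ _ e0 | exact hp (42, 37) (by decide) _ _ e2
        | exact hp (29, 34) (by decide) _ _ e0 | exact hp (29, 34) (by decide) _ _ e2
  · rw [wordMat_eq_prod full.cert, gE, List.map_map]; rfl

theorem yE_mem (c : Spor.Fi22.Gen) : yE w c ∈ twistedE6 K 2 := by
  have hP : ((word c).map (gE w)).prod ∈ twistedE6 K 2 := Subgroup.list_prod_mem _ fun x hx => by
    obtain ⟨j, -, rfl⟩ := List.mem_map.1 hx; exact gE_mem hw j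
  exact mul_mem (mul_mem hP (gE_mem hw 0)) (inv_mem hP)

theorem powM_rep {g : GL chevE6.Idx K} {A : Mat} (h : Rep chevE6 w g A) : ∀ n, Rep chevE6 w (g ^ n) (powM A n) := by
  intro n
  induction n with
  | zero => rw [pow_zero, powM]; exact Rep.one
  | succ n ih =>
    cases n with
    | zero => rw [pow_one, powM]; exact h
    | succ n => rw [pow_succ', powM]; exact h.mul hw ih

theorem yprod_rep (l : List Spor.Fi22.Gen) : Rep chevE6 w (l.map (yE w)).prod (prodM 78 (l.map yM)) :=
  Rep.prod hw (List.forall₂_map_left_iff.2 (List.forall₂_map_right_iff.2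
    (List.forall₂_same.2 fun j _ => yE_rep hw j)))

theorem cox (x y : Spor.Fi22.Gen) : (yE w x * yE w y) ^ Spor.coxLabel Spor.Fi22.edges x y = 1 := by
  have key : ∀ x y, ord x ≤ ord y → (yE w x * yE w y) ^ Spor.coxLabel Spor.Fi22.edges x y = 1 := fun x y h =>
    (powM_rep hw ((yE_rep hw x).mul hw (yE_rep hw y)) _).eq Rep.one
      (cox_check x (mem_allGens x) y (mem_allGens y) h)
  rcases le_total (ord x) (ord y) with h | h
  · exact key x y h
  · have hsq : ∀ z, (yE w z)⁻¹ = yE w z := fun z => by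
      have := key z z le_rfl
      rw [(coxLabel_comm z (mem_allGens z) z (mem_allGens z)).2, pow_one] at this
      exact inv_eq_of_mul_eq_one_left this
    rw [(coxLabel_comm x (mem_allGens x) y (mem_allGens y)).1,
      show yE w x * yE w y = (yE w y * yE w x)⁻¹ by rw [mul_inv_rev, hsq, hsq], inv_pow, key y x h, inv_one]

theorem rels : ∀ r ∈ Spor.coxRelators Spor.Fi22.edges ∪ {r | r ∈ Spor.Fi22.extra},
    FreeGroup.lift (yE w) r = 1 := by
  obtain ⟨e1, e2, e3⟩ := extra_check
  have key : ∀ (l : List Spor.Fi22.Gen) (m n : ℕ), powM (powM (prodM 78 (l.map yM)) m) n = oneM 78 →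
      ((l.map (yE w)).prod ^ m) ^ n = 1 := fun l m n e =>
    (powM_rep hw (powM_rep hw (yprod_rep hw l) m) n).eq Rep.one e
  rintro r (⟨x, -, y, -, rfl⟩ | hr)
  · rw [map_pow, map_mul, FreeGroup.lift_apply_of, FreeGroup.lift_apply_of]
    exact cox hw x y
  · have h1 := key _ _ _ e1
    have h2 := key _ _ _ e2
    have h3 := key _ _ _ e3
    simp only [← pow_mul, List.map_cons, List.map_nil, List.prod_cons, List.prod_nil, mul_one] at h1 h2 h3
    simp only [Spor.Fi22.extra, Set.mem_setOf_eq, List.mem_cons, List.not_mem_nil, or_false] at hr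
    rcases hr with rfl | rfl | rfl <;>
      simp only [map_pow, map_mul, Spor.Fi22.a, Spor.Fi22.b, Spor.Fi22.c, Spor.Fi22.d, Spor.Fi22.e,
        Spor.Fi22.f, Spor.Fi22.g, Spor.Fi22.h, Spor.Fi22.i, FreeGroup.lift_apply_of, mul_assoc]
    · exact h1
    · exact h2
    · exact h3

theorem yE_d_ne_one : yE w .d ≠ 1 := by
  have e : yE w .d = xG full.cert 46 (1 : K) := by simp [yE, word, gE, spec, val]
  rw [e]
  intro h
  exact one_ne_zero (xG_injective full.cert (by decide) (h.trans (xG_zero full.cert 46).symm))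

/-- The homomorphism from the presented group. -/
noncomputable def phi : Spor.Fi22 →* twistedE6 K 2 :=
  PresentedGroup.toGroup (f := fun c => (⟨yE w c, yE_mem hw c⟩ : twistedE6 K 2)) fun r hr => Subtype.ext (by
    rw [OneMemClass.coe_one, ← rels hw r hr]
    show (twistedE6 K 2).subtype _ = _
    rw [← MonoidHom.comp_apply]
    exact DFunLike.congr_fun (FreeGroup.ext_hom _ _ fun c => by simp) r)

theorem phi_of (c : Spor.Fi22.Gen) : (phi hw (PresentedGroup.of c) : GL chevE6.Idx K) = yE w c := by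
  rw [phi, PresentedGroup.toGroup.of]

end CfsgLib.Fi22InE6
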