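import Cfsg.Agent.Lib.Fi22InE6.Cert

/-!
Only scalar matrices commute with the nine involutions.
-/

set_option autoImplicit false
set_option linter.unusedSectionVars false
set_option linter.constructorNameAsVariable false
set_option maxRecDepth 100000
set_option maxHeartbeats 4000000

namespace CfsgLib.Fi22InE6

open Cfsg Cfsg.Lie CfsgLib.Chevalley CfsgLib.F4Mat78

/-- Sum with the identity. -/
def addOne (M : Mat) : Mat :=
  (List.range 78).map fun i => ((M.getD i (0, 0)).1 ^^^ 2 ^ i, (M.getD i (0, 0)).2)

/-- A product of rank one. -/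
noncomputable def rankOneM : Mat :=
  mulM (mulM (mulM (addOne Data.yd) (addOne Data.ya)) (addOne Data.yg)) (addOne Data.yi)

theorem scalar_check : scalarCheck chevE6 rankOneM Data.rows Data.rowsInv (allGens.map yM) Data.steps Data.i0 Data.j0 := by
  unfold scalarCheck
  decide +kernel

variable {K : Type*} [Field K] [CharP K 2] {w : K} (hw : w * w = w + 1)

include hw

theorem addOne_spec {M : Mat} : toMat chevE6 w (addOne M) = toMat chevE6 w M + 1 := by
  ext a b
  rw [Matrix.add_apply, toMat, Matrix.of_apply, ent, addOne, List.getD_eq_getElem?_getD,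
    List.getElem?_eq_getElem (by rw [List.length_map, List.length_range]; exact (code chevE6 a).isLt), Option.getD_some]
  simp only [List.getElem_map, List.getElem_range, Nat.testBit_xor, Nat.testBit_two_pow]
  have e : (1 : Matrix chevE6.Idx chevE6.Idx K) a b =
      val w (decide (((code chevE6 a : Fin _) : ℕ) = code chevE6 b)) false := by
    rw [Matrix.one_apply]
    by_cases h : a = b <;> simp [h, val, Fin.val_inj]
  rw [e, toMat, Matrix.of_apply, ent, ← val_xor, Bool.xor_false]

/-- Only scalars commute with the nine involutions. -/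
theorem scalar_of_comm {C : Matrix chevE6.Idx chevE6.Idx K}
    (hC : ∀ c, C * (yE w c : Matrix chevE6.Idx chevE6.Idx K) = (yE w c : Matrix chevE6.Idx chevE6.Idx K) * C) :
    ∃ a : K, C = a • (1 : Matrix chevE6.Idx chevE6.Idx K) := by
  have hY : ∀ c, Commute C (toMat chevE6 w (yM c)) := fun c => by
    rw [← (yE_rep hw c).2]; exact hC c
  have hadd : ∀ M : Mat, (addOne M).length = chevE6.rank + chevE6.nroots := fun M => by simp [addOne]; rfl
  have hmul : ∀ A B : Mat, A.length = chevE6.rank + chevE6.nroots →
      (mulM A B).length = chevE6.rank + chevE6.nroots := fun A B h => by rw [mulM, List.length_map, h]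
  have hN : ∀ c, Commute C (toMat chevE6 w (addOne (yM c))) := fun c => by
    rw [addOne_spec hw]; exact (hY c).add_right (Commute.one_right C)
  refine scalar_of_cert hw scalar_check (fun M hM => ?_) (hmul _ _ (hmul _ _ (hmul _ _ (hadd _)))) ?_ (fun M hM => ?_)
  · obtain ⟨c, -, rfl⟩ := List.mem_map.1 hM; exact (yE_rep hw c).1
  · rw [rankOneM, toMat_mul hw (hmul _ _ (hmul _ _ (hadd _))) (hadd _),
      toMat_mul hw (hmul _ _ (hadd _)) (hadd _), toMat_mul hw (hadd _) (hadd _)]
    exact (((hN .d).mul_right (hN .a)).mul_right (hN .g)).mul_right (hN .i)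
  · obtain ⟨c, -, rfl⟩ := List.mem_map.1 hM; exact hY c

end CfsgLib.Fi22InE6
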