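import Cfsg.Agent.Lib.Fi22InE6.Commutant
import Cfsg.Agent.Lib.TwistedE6F4.Nonconj
import Cfsg.Agent.S1696
import Cfsg.Agent.S2079

/-!
Three pairwise non-conjugate subgroups isomorphic to `Fi₂₂` in twisted `E₆` over the field with four elements.
-/

set_option autoImplicit false
set_option linter.unusedSectionVars false
set_option linter.all false
set_option maxRecDepth 20000
set_option maxHeartbeats 2000000

namespace CfsgLib.Fi22InE6

open Cfsg Cfsg.Lie CfsgLib.Chevalley CfsgLib.TwistedE6Involutions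
open CfsgLib.TwistedE6F4 (dW dW_mul dW_inv dW_conj dW_norm chW vfun twisted_le_group uReg uReg_regular phi_torus
  vfun_simple mem_borel_of_regular)

variable {K : Type*} [Field K] [CharP K 2]

theorem posU_diag {v : GL chevE6.Idx K} (hv : v ∈ chevE6.posUnipotent K) (a : chevE6.Idx) :
    (v : Matrix chevE6.Idx chevE6.Idx K) a a = 1 := by
  by_contra hne
  have := raiseBy_posU full hv a a (by rw [Matrix.sub_apply, Matrix.one_apply_eq]; exact sub_ne_zero.2 hne)
  omega

/-- A scalar multiple of a non-trivial outer diagonal element is not in the Chevalley group. -/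
theorem no_scalar_diag [Fintype K] {w : Kˣ} (hcard : Nat.card Kˣ = 3) (hw : orderOf w = 3) {k : ℤ}
    (hk : ¬ (3 : ℤ) ∣ k) {t : GL chevE6.Idx K} (ht : t ∈ chevE6.group K) {c : K}
    (e : (t : Matrix chevE6.Idx chevE6.Idx K) = c • (dW w k : Matrix chevE6.Idx chevE6.Idx K)) : False := by
  classical
  haveI : Fact (Nat.Prime 2) := ⟨Nat.prime_two⟩
  have hu := uReg_regular (K := K)
  have hconj : t * uReg K * t⁻¹ = dW w k * uReg K * (dW w k)⁻¹ := by
    rw [mul_inv_eq_iff_eq_mul]
    apply Units.ext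
    have e1 : dW w k * uReg K * (dW w k)⁻¹ * dW w k = dW w k * uReg K := by group
    rw [Units.val_mul, Units.val_mul, e, Matrix.smul_mul, Matrix.mul_smul, ← Units.val_mul, ← Units.val_mul, e1]
  have hU : t * uReg K * t⁻¹ ∈ chevE6.posUnipotent K := by
    rw [hconj]
    exact rootsU_conj_le full.cert (fun r hr s => by
      rw [dW_conj w k hr.1]; exact xG_mem_rootsU full.cert hr _) _ hu.1
  obtain ⟨v, hv, d, hd, hvd⟩ := (mem_borel_iff full).1 (mem_borel_of_regular full ht hu hU)
  rw [diagonalSubgroup_eq_range full] at hd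
  obtain ⟨f, rfl⟩ := hd
  have hent : ∀ a : chevE6.Idx, c * Sum.elim (fun _ => (1 : K)) (fun r : Fin chevE6.nroots => (chW w k r : K)) a =
      Sum.elim (fun _ => (1 : K)) (fun r : Fin chevE6.nroots => ((chi chevE6 r f : Kˣ) : K)) a := by
    intro a
    have h1 := congrFun (congrFun (e.symm.trans (congrArg Units.val hvd)) a) a
    rw [Units.val_mul, coe_torusHom, Matrix.mul_diagonal, posU_diag hv, one_mul] at h1
    rw [← h1]
    simp [dW, ChevalleyDatum.charDiag]
  have hc : c = 1 := by simpa using hent (Sum.inl ⟨0, by decide⟩)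
  have hchi : ∀ r, r < chevE6.nroots → chi chevE6 r f = w ^ (k * vfun r) := fun r hr => by
    have := hent (Sum.inr ⟨r, hr⟩)
    rw [hc, one_mul] at this
    exact (Units.ext this).symm
  have hphi := phi_torus hcard f
  obtain ⟨a0, a2, a4, a5⟩ := vfun_simple
  have hs : ∀ i < 6, chevE6.simple i < chevE6.nroots := fun i hi => full.cert.wf.simple_lt i hi
  rw [hchi _ (hs 0 (by norm_num)), hchi _ (hs 2 (by norm_num)), hchi _ (hs 4 (by norm_num)),
    hchi _ (hs 5 (by norm_num)), a0, a2, a4, a5, ← zpow_mul, ← zpow_mul, ← zpow_add, ← zpow_add, ← zpow_add] at hphi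
  have := orderOf_dvd_iff_zpow_eq_one.2 hphi
  rw [hw] at this
  omega

variable {w : K} (hw : w * w = w + 1)

theorem phi_injective : Function.Injective (phi hw) := by
  haveI := Cfsg.Agent.S1696.result.1
  rcases (inferInstance : (phi hw).ker.Normal).eq_bot_or_eq_top with h | h
  · exact (MonoidHom.ker_eq_bot_iff _).1 h
  · refine absurd ?_ (yE_d_ne_one hw)
    have : phi hw (PresentedGroup.of .d) = 1 := MonoidHom.mem_ker.1 (h ▸ Subgroup.mem_top _)
    rw [← phi_of hw, this, OneMemClass.coe_one]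

/-- The embedding in the general linear group. -/
noncomputable def psi : Spor.Fi22 →* GL chevE6.Idx K := (twistedE6 K 2).subtype.comp (phi hw)

theorem psi_of (c : Spor.Fi22.Gen) : psi hw (PresentedGroup.of c) = yE w c := phi_of hw c

theorem psi_mem (x : Spor.Fi22) : psi hw x ∈ twistedE6 K 2 := (phi hw x).2

theorem psi_injective : Function.Injective (psi hw) := fun a b h => phi_injective hw (Subtype.ext h)

variable [Fintype K] {σ : K →+* K} (S : Setting σ 2) {z : Kˣ} (hcard : Nat.card Kˣ = 3) (hz : orderOf z = 3)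

include hw S hcard hz

/-- No outer diagonal element times a group element normalises the image of `Fi₂₂`. -/
theorem no_normalize {m : ℤ} (hm : ¬ (3 : ℤ) ∣ m) {g : GL chevE6.Idx K} (hg : g ∈ twistedE6 K 2)
    (hN : ∀ x ∈ (psi hw).range, dW z m * g * x * (dW z m * g)⁻¹ ∈ (psi hw).range) : False := by
  classical
  haveI hfin : Finite Spor.Fi22 :=
    Nat.finite_of_card_ne_zero (by rw [Cfsg.Agent.S1696.result.2]; norm_num)
  have hz3 : z ^ (3 : ℤ) = 1 := by
    rw [show (3 : ℤ) = ((orderOf z : ℕ) : ℤ) by rw [hz]; rfl, zpow_natCast, pow_orderOf_eq_one]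
  set n := dW z m * g with hn
  choose α hα using fun x => MonoidHom.mem_range.1 (hN (psi hw x) ⟨x, rfl⟩)
  have hmul : ∀ a b, α (a * b) = α a * α b := fun a b =>
    psi_injective hw (by rw [map_mul, hα, hα, hα, map_mul]; group)
  have hinj : Function.Injective α := fun a b e => psi_injective hw (by
    have := congrArg (psi hw) e
    rw [hα, hα] at this
    exact mul_left_cancel (mul_right_cancel this))
  let β : MulAut Spor.Fi22 := MulEquiv.ofBijective (MonoidHom.mk' α hmul) (Finite.injective_iff_bijective.1 hinj)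
  have hsq : (QuotientGroup.mk (β * β) : Out Spor.Fi22) = 1 := by
    rw [← sq, QuotientGroup.mk_pow, ← Cfsg.Agent.S2079.result]
    exact pow_card_eq_one'
  rw [QuotientGroup.eq_one_iff] at hsq
  obtain ⟨h, hh⟩ := hsq
  have hC : ∀ x, (psi hw h)⁻¹ * (n * n) * psi hw x = psi hw x * ((psi hw h)⁻¹ * (n * n)) := by
    intro x
    have e : n * (n * psi hw x * n⁻¹) * n⁻¹ = psi hw h * psi hw x * (psi hw h)⁻¹ := by
      rw [← hα, ← hα]
      show psi hw ((β * β) x) = _
      rw [← hh, MulAut.conj_apply, map_mul, map_mul, map_inv]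
    calc (psi hw h)⁻¹ * (n * n) * psi hw x
        = (psi hw h)⁻¹ * (n * (n * psi hw x * n⁻¹) * n⁻¹) * (n * n) := by group
      _ = psi hw x * ((psi hw h)⁻¹ * (n * n)) := by rw [e]; group
  obtain ⟨a, ha⟩ := scalar_of_comm hw
    (C := (((psi hw h)⁻¹ * (n * n) : GL chevE6.Idx K) : Matrix chevE6.Idx chevE6.Idx K)) fun c => by
      rw [← psi_of hw, ← Units.val_mul, ← Units.val_mul, hC]
  set g2 := dW z (-m) * g * (dW z (-m))⁻¹ * g with hg2
  have hg2G : g2 ∈ twistedE6 K 2 := mul_mem (dW_norm S hz3 _ g hg) hg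
  have e2 : n * n = dW z (m + m) * g2 := by
    rw [hn, hg2, ← dW_mul, ← dW_inv z m]; group
  -- transfer the scalar
  set p := psi hw h with hp
  have hk : ¬ (3 : ℤ) ∣ -(m + m) := by omega
  refine no_scalar_diag hcard hz hk (t := g2 * p⁻¹)
    (twisted_le_group (mul_mem hg2G (inv_mem (psi_mem hw h)))) (c := a) ?_
  have e3 : g2 * p⁻¹ = dW z (-(m + m)) * (p * (p⁻¹ * (n * n)) * p⁻¹) := by
    rw [e2, ← dW_inv]; group
  rw [e3, Units.val_mul, Units.val_mul, Units.val_mul, ha, Matrix.mul_smul, mul_one, Matrix.smul_mul,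
    ← Units.val_mul, mul_inv_cancel, Units.val_one, Matrix.mul_smul, mul_one]

/-- Three pairwise non-conjugate subgroups isomorphic to `Fi₂₂`. -/
theorem exists_three : ∃ H : Fin 3 → Subgroup (twistedE6 K 2),
    (∀ i, Cfsg.Spor.IsoFi22 (H i)) ∧
      (∀ i j, i ≠ j → ∀ g : twistedE6 K 2, (H i).map (MulAut.conj g).toMonoidHom ≠ H j) := by
  have hz3 : z ^ (3 : ℤ) = 1 := by
    rw [show (3 : ℤ) = ((orderOf z : ℕ) : ℤ) by rw [hz]; rfl, zpow_natCast, pow_orderOf_eq_one]
  let φ : Fin 3 → (Spor.Fi22 →* twistedE6 K 2) := fun i =>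
    ((MulAut.conj (dW z (i : ℕ))).toMonoidHom.comp (psi hw)).codRestrict (twistedE6 K 2) fun x =>
      dW_norm S hz3 _ _ (psi_mem hw x)
  have hφ : ∀ i x, (φ i x : GL chevE6.Idx K) = dW z (i : ℕ) * psi hw x * (dW z (i : ℕ))⁻¹ := fun i x => rfl
  have hinj : ∀ i, Function.Injective (φ i) := fun i a b e => psi_injective hw (by
    simpa [hφ] using congrArg Subtype.val e)
  refine ⟨fun i => (φ i).range, fun i => ⟨(MonoidHom.ofInjective (hinj i)).symm⟩, fun i j hij g he => ?_⟩
  have hm : ¬ (3 : ℤ) ∣ ((i : ℕ) : ℤ) - ((j : ℕ) : ℤ) := by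
    have := i.isLt; have := j.isLt; have : (i : ℕ) ≠ j := fun e => hij (Fin.ext e); omega
  refine no_normalize hw S hcard hz hm
    (g := dW z (-((i : ℕ) : ℤ)) * (g : GL chevE6.Idx K) * (dW z (-((i : ℕ) : ℤ)))⁻¹) (dW_norm S hz3 _ _ g.2) ?_
  rintro _ ⟨x, rfl⟩
  have hx : MulAut.conj g (φ i x) ∈ (φ j).range := by
    simp only at he
    rw [← he]; exact Subgroup.mem_map_of_mem _ ⟨x, rfl⟩
  obtain ⟨x', hx'⟩ := hx
  refine ⟨x', ?_⟩
  have e := congrArg Subtype.val hx'
  rw [hφ, MulAut.conj_apply, Subgroup.coe_mul, Subgroup.coe_mul, Subgroup.coe_inv, hφ] at e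
  have e2 : psi hw x' = (dW z (j : ℕ))⁻¹ * ((g : GL chevE6.Idx K) * (dW z (i : ℕ) * psi hw x * (dW z (i : ℕ))⁻¹) *
      (g : GL chevE6.Idx K)⁻¹) * dW z (j : ℕ) := by rw [← e]; group
  rw [e2, sub_eq_neg_add, ← dW_mul, ← dW_inv, ← dW_inv]
  group

end CfsgLib.Fi22InE6
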